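import Groth.Prelude.Def_DerCA
import Mathlib.CategoryTheory.Triangulated.Pretriangulated

/-!
A levelwise map of inverse systems with pro-zero cone is a pro-isomorphism.
-/

set_option autoImplicit false
universe v u

namespace ProIsoTriLib

open CategoryTheory CategoryTheory.Limits CategoryTheory.Pretriangulated Opposite

variable {D : Type u} [Category.{v} D] [Preadditive D] [HasZeroObject D] [HasShift D ℤ]
    [∀ n : ℤ, (shiftFunctor D n).Additive] [Pretriangulated D]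

lemma tr_comp (X : ARSys.PS D) {a b c : ℕ} (h : a ≤ b) (h' : b ≤ c) :
    ARSys.tr X h' ≫ ARSys.tr X h = ARSys.tr X (h.trans h') := by
  rw [ARSys.tr, ARSys.tr, ← Functor.map_comp]
  rfl

theorem main (X Y Z : ARSys.PS D) (f : X ⟶ Y) (g : Y ⟶ Z) (h : Z ⟶ X ⋙ shiftFunctor D (1 : ℤ))
    (hT : ∀ n : ℕ, Triangle.mk (f.app (op n)) (g.app (op n)) (h.app (op n)) ∈ distTriang D)
    (hZ : DerCA.IsProZero Z) :
    DerCA.IsProIso f := by
  intro n
  obtain ⟨m₁, h₁, -⟩ := hZ n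
  obtain ⟨m₂, h₂, e₂⟩ := hZ m₁
  obtain ⟨m₃, h₃, e₃⟩ := hZ m₂
  -- the transition map of `X` from `m₂` to `m₁` factors through `f`
  obtain ⟨φ, hφ⟩ : ∃ φ : Y.obj (op m₂) ⟶ X.obj (op m₁), f.app (op m₂) ≫ φ = ARSys.tr X h₂ := by
    have hz : h.app (op m₂) ≫ (shiftFunctor D (1 : ℤ)).map (ARSys.tr X h₂) = 0 :=
      (h.naturality (homOfLE h₂).op).symm.trans (by rw [show Z.map (homOfLE h₂).op = 0 from e₂]; exact zero_comp)
    obtain ⟨ψ, hψ⟩ := Triangle.yoneda_exact₃ _ (rot_of_distTriang _ (hT m₂))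
      ((shiftFunctor D (1 : ℤ)).map (ARSys.tr X h₂)) hz
    let ψ' : (shiftFunctor D (1 : ℤ)).obj (Y.obj (op m₂)) ⟶ (shiftFunctor D (1 : ℤ)).obj (X.obj (op m₁)) := ψ
    obtain ⟨φ, hφ⟩ := (shiftFunctor D (1 : ℤ)).map_surjective (-ψ')
    refine ⟨φ, (shiftFunctor D (1 : ℤ)).map_injective ?_⟩
    rw [Functor.map_comp, hφ, Preadditive.comp_neg]
    refine Eq.trans ?_ hψ.symm
    show -((shiftFunctor D (1 : ℤ)).map (f.app (op m₂)) ≫ ψ') =
      (-(shiftFunctor D (1 : ℤ)).map (f.app (op m₂))) ≫ ψ'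
    exact (Preadditive.neg_comp _ _).symm
  -- killing the error on the `Y` side
  have hg : ARSys.tr Y h₃ ≫ g.app (op m₂) = 0 :=
    (g.naturality (homOfLE h₃).op).trans (by rw [show Z.map (homOfLE h₃).op = 0 from e₃]; exact comp_zero)
  have hf : ∀ {a b : ℕ} (hab : a ≤ b), ARSys.tr X hab ≫ f.app (op a) = f.app (op b) ≫ ARSys.tr Y hab :=
    fun hab => f.naturality (homOfLE hab).op
  obtain ⟨e, he⟩ := Triangle.yoneda_exact₂ _ (hT m₂) (φ ≫ f.app (op m₁) - ARSys.tr Y h₂) (by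
    show f.app (op m₂) ≫ (φ ≫ f.app (op m₁) - ARSys.tr Y h₂) = 0
    rw [Preadditive.comp_sub, ← Category.assoc, hφ, hf, sub_self])
  have key : ARSys.tr Y h₃ ≫ φ ≫ f.app (op m₁) = ARSys.tr Y (h₂.trans h₃) := by
    rw [← tr_comp Y h₂ h₃, ← sub_eq_zero, ← Preadditive.comp_sub, he]
    show ARSys.tr Y h₃ ≫ g.app (op m₂) ≫ e = 0
    rw [← Category.assoc, hg, zero_comp]
  refine ⟨m₃, h₁.trans (h₂.trans h₃), ARSys.tr Y h₃ ≫ φ ≫ ARSys.tr X h₁, ?_, ?_⟩
  · rw [← Category.assoc, ← hf, Category.assoc, ← Category.assoc (f.app (op m₂)), hφ, tr_comp, tr_comp]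
  · rw [Category.assoc, Category.assoc, hf, ← Category.assoc φ, ← Category.assoc (ARSys.tr Y h₃),
      key, tr_comp]

end ProIsoTriLib
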